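import Mathlib

set_option autoImplicit false
set_option linter.unusedSectionVars false

/-!
# Block-diagonal embedding and conjugation by an invertible rectangular matrix
-/

namespace Cfsg.Agent.Lib.Helper37.LBM

open Matrix

variable {ι κ ι₁ ι₂ : Type} [Fintype ι] [DecidableEq ι] [Fintype κ] [DecidableEq κ]
  [Fintype ι₁] [DecidableEq ι₁] [Fintype ι₂] [DecidableEq ι₂] {F : Type*} [Field F]

/-- block-diagonal embedding `GL × GL → GL` -/
noncomputable def blkGL : GL ι₁ F × GL ι₂ F →* GL (ι₁ ⊕ ι₂) F :=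
  MonoidHom.mk' (fun X => ⟨Matrix.fromBlocks (X.1 : Matrix ι₁ ι₁ F) 0 0 (X.2 : Matrix ι₂ ι₂ F),
      Matrix.fromBlocks ((X.1⁻¹ : GL ι₁ F) : Matrix ι₁ ι₁ F) 0 0
        ((X.2⁻¹ : GL ι₂ F) : Matrix ι₂ ι₂ F), by
      rw [Matrix.fromBlocks_multiply]
      simp [Matrix.fromBlocks_one], by
      rw [Matrix.fromBlocks_multiply]
      simp [Matrix.fromBlocks_one]⟩)
    (by
      intro X Y
      apply Units.ext
      simp [Matrix.fromBlocks_multiply])

theorem blkGL_coe (X : GL ι₁ F × GL ι₂ F) :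
    ((blkGL X : GL (ι₁ ⊕ ι₂) F) : Matrix (ι₁ ⊕ ι₂) (ι₁ ⊕ ι₂) F) =
      Matrix.fromBlocks (X.1 : Matrix ι₁ ι₁ F) 0 0 (X.2 : Matrix ι₂ ι₂ F) := rfl

theorem blkGL_injective : Function.Injective (blkGL : GL ι₁ F × GL ι₂ F → GL (ι₁ ⊕ ι₂) F) := by
  intro X Y h
  have h1 := congrArg (fun g : GL (ι₁ ⊕ ι₂) F => (g : Matrix (ι₁ ⊕ ι₂) (ι₁ ⊕ ι₂) F)) h
  simp only [blkGL_coe] at h1
  rw [Matrix.fromBlocks_inj] at h1
  exact Prod.ext (Units.ext h1.1) (Units.ext h1.2.2.2)

/-- conjugation by an invertible rectangular matrix -/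
noncomputable def conjE (E : Matrix ι κ F) (E' : Matrix κ ι F) (h1 : E * E' = 1)
    (h2 : E' * E = 1) : GL κ F →* GL ι F :=
  MonoidHom.mk' (fun X => ⟨E * (X : Matrix κ κ F) * E', E * ((X⁻¹ : GL κ F) : Matrix κ κ F) * E',
      by
        calc E * (X : Matrix κ κ F) * E' * (E * ((X⁻¹ : GL κ F) : Matrix κ κ F) * E')
            = E * ((X : Matrix κ κ F) * (E' * E) * ((X⁻¹ : GL κ F) : Matrix κ κ F)) * E' := by
              simp only [Matrix.mul_assoc]
          _ = 1 := by
              rw [h2, Matrix.mul_one, ← Units.val_mul, mul_inv_cancel, Units.val_one,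
                Matrix.mul_one, h1],
      by
        calc E * ((X⁻¹ : GL κ F) : Matrix κ κ F) * E' * (E * (X : Matrix κ κ F) * E')
            = E * (((X⁻¹ : GL κ F) : Matrix κ κ F) * (E' * E) * (X : Matrix κ κ F)) * E' := by
              simp only [Matrix.mul_assoc]
          _ = 1 := by
              rw [h2, Matrix.mul_one, ← Units.val_mul, inv_mul_cancel, Units.val_one,
                Matrix.mul_one, h1]⟩)
    (by
      intro X Y
      apply Units.ext
      show E * ((X * Y : GL κ F) : Matrix κ κ F) * E' =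
        E * (X : Matrix κ κ F) * E' * (E * (Y : Matrix κ κ F) * E')
      calc E * ((X * Y : GL κ F) : Matrix κ κ F) * E'
          = E * ((X : Matrix κ κ F) * 1 * (Y : Matrix κ κ F)) * E' := by
            rw [Matrix.mul_one, Units.val_mul]
        _ = E * (X : Matrix κ κ F) * E' * (E * (Y : Matrix κ κ F) * E') := by
            rw [← h2]
            simp only [Matrix.mul_assoc])

theorem conjE_coe (E : Matrix ι κ F) (E' : Matrix κ ι F) (h1 : E * E' = 1) (h2 : E' * E = 1)
    (X : GL κ F) : ((conjE E E' h1 h2 X : GL ι F) : Matrix ι ι F) = E * (X : Matrix κ κ F) * E' :=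
  rfl

theorem conjE_injective (E : Matrix ι κ F) (E' : Matrix κ ι F) (h1 : E * E' = 1)
    (h2 : E' * E = 1) : Function.Injective (conjE E E' h1 h2) := by
  intro X Y h
  have h3 := congrArg (fun g : GL ι F => E' * (g : Matrix ι ι F) * E) h
  simp only [conjE_coe] at h3
  have e : ∀ Z : Matrix κ κ F, E' * (E * Z * E') * E = Z := by
    intro Z
    calc E' * (E * Z * E') * E = (E' * E) * Z * (E' * E) := by simp only [Matrix.mul_assoc]
      _ = Z := by rw [h2, Matrix.one_mul, Matrix.mul_one]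
  rw [e, e] at h3
  exact Units.ext h3

/-- every element of `GL ι F` is a conjugate -/
theorem conjE_surjective (E : Matrix ι κ F) (E' : Matrix κ ι F) (h1 : E * E' = 1)
    (h2 : E' * E = 1) : Function.Surjective (conjE E E' h1 h2) := by
  intro Y
  refine ⟨conjE E' E h2 h1 Y, ?_⟩
  apply Units.ext
  rw [conjE_coe, conjE_coe]
  calc E * (E' * (Y : Matrix ι ι F) * E) * E' = (E * E') * (Y : Matrix ι ι F) * (E * E') := by
        simp only [Matrix.mul_assoc]
    _ = (Y : Matrix ι ι F) := by rw [h1, Matrix.one_mul, Matrix.mul_one]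

theorem card_eq_of_inv (E : Matrix ι κ F) (E' : Matrix κ ι F) (h1 : E * E' = 1)
    (h2 : E' * E = 1) : Fintype.card ι = Fintype.card κ := by
  apply le_antisymm
  · have := Matrix.rank_mul_le_left E E'
    rw [h1, Matrix.rank_one] at this
    exact this.trans (Matrix.rank_le_card_width E)
  · have := Matrix.rank_mul_le_left E' E
    rw [h2, Matrix.rank_one] at this
    exact this.trans (Matrix.rank_le_card_width E')

end Cfsg.Agent.Lib.Helper37.LBM
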