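import Mathlib
import Cfsg.Agent.Lib.Helper37.LBM.Abs3
import Cfsg.Agent.Lib.Helper13.MinusCent1
import Cfsg.Agent.Lib.Helper36.AutO.OutMinusOdd
import Cfsg.Agent.Lib.Helper44.LBGen

set_option autoImplicit false
set_option linter.unusedSectionVars false
set_option linter.unusedVariables false

/-!
# A generic local-balance theorem for involutory similarity-induced automorphisms of `PΩ(Q)`

Data: a group `G₀` with an injective homomorphism `φ : G₀ → GL` into `Ω(Q)`, commuting with the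
similarity `g`, normalised by the elements of `Ω(Q)` whose classes commute with `x = simAut g`,
with `G₀ / Z(G₀)` without non-trivial normal subgroups of odd order, and with
"semilinear centraliser" `⟨scalars, g⟩`.  Conclusion: `O_{2'}(C_A(x)) = 1`.
-/

namespace Cfsg.Agent.Lib.Helper37.LBM

open Matrix Cfsg.Agent.Lib.Helper36 Cfsg.Agent.Lib.Helper36.AutO Cfsg.Agent.Lib.Helper36.LocalBalance
  Cfsg.Agent.Lib.Helper13 Cfsg.Agent.Lib.Helper44.LB

variable {ι : Type} [Fintype ι] [DecidableEq ι] {F : Type*} [Field F] [Fintype F]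

/-- a pair-induced automorphism commuting with a similarity-induced one: matrix form -/
theorem comm_simAut_pair (Q : QuadraticForm F (ι → F))
    (hQ : (QuadraticMap.polarBilin Q).Nondegenerate) (h7 : 7 ≤ Fintype.card ι)
    (h : GL ι F) (τ : F ≃+* F) (hp : Cfsg.IsSemisimilarityPair (⇑Q) h τ)
    (a : MulAut (Cfsg.POmega F (⇑Q))) (hi : Cfsg.IsInducedBySemilinearPOmega (⇑Q) h τ a)
    (k : ↥(Cfsg.Geo.quadSimilarityGroup (⇑Q))) (hc : a * simAut (⇑Q) k = simAut (⇑Q) k * a) :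
    ∃ c : Fˣ, h * glMap τ (k : GL ι F) =
      Matrix.GeneralLinearGroup.scalar ι c * ((k : GL ι F) * h) := by
  obtain ⟨c₀, hc₀⟩ := hp
  obtain ⟨μ, hμ⟩ := k.2
  have hmem : h * glMap τ (k : GL ι F) * h⁻¹ ∈ Cfsg.Geo.quadSimilarityGroup (⇑Q) := by
    refine ⟨Units.map (τ : F →* F) μ, fun v => ?_⟩
    exact conj_similarity (⇑Q) h τ (c₀ : F) hc₀ (k : GL ι F) (μ : F) hμ v
  set k' : ↥(Cfsg.Geo.quadSimilarityGroup (⇑Q)) := ⟨_, hmem⟩ with hk'
  have h1 := conj_simAut (⇑Q) h τ ⟨c₀, hc₀⟩ a hi k k' rfl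
  have h2 : simAut (⇑Q) k' = simAut (⇑Q) k := by
    rw [← h1, hc, mul_inv_cancel_right]
  have h3 : simAut (⇑Q) (k' * k⁻¹) = 1 := by
    rw [map_mul, map_inv, h2, mul_inv_cancel]
  obtain ⟨l, hl⟩ := (simAut_eq_one_iff Q hQ h7 (k' * k⁻¹)).mp h3
  have hl0 : l ≠ 0 := by
    intro h0
    rw [h0, zero_smul] at hl
    have hne : Nonempty ι := by
      rw [← Fintype.card_pos_iff]; omega
    have hdet := (Matrix.isUnits_det_units ((k' * k⁻¹ : ↥(Cfsg.Geo.quadSimilarityGroup (⇑Q))) :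
      GL ι F)).ne_zero
    have hz : (0 : Matrix ι ι F).det = 0 := Matrix.det_zero
    rw [hl, hz] at hdet
    exact hdet rfl
  refine ⟨Units.mk0 l hl0, ?_⟩
  have h4 : ((k' * k⁻¹ : ↥(Cfsg.Geo.quadSimilarityGroup (⇑Q))) : GL ι F) =
      Matrix.GeneralLinearGroup.scalar ι (Units.mk0 l hl0) := by
    apply Units.ext
    rw [hl, Matrix.GeneralLinearGroup.coe_scalar, Matrix.smul_one_eq_diagonal]
    rfl
  have h5 : h * glMap τ (k : GL ι F) * h⁻¹ * (k : GL ι F)⁻¹ =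
      Matrix.GeneralLinearGroup.scalar ι (Units.mk0 l hl0) := by
    rw [← h4]
    rfl
  calc h * glMap τ (k : GL ι F)
      = (h * glMap τ (k : GL ι F) * h⁻¹ * (k : GL ι F)⁻¹) * ((k : GL ι F) * h) := by group
    _ = _ := by rw [h5]

/-- **generic theorem** -/
theorem lb_pomega_generic (Q : QuadraticForm F (ι → F))
    (hQ : (QuadraticMap.polarBilin Q).Nondegenerate) (h7 : 7 ≤ Fintype.card ι)
    (htop : Cfsg.gammaPOmega F (⇑Q) = ⊤)
    (g : ↥(Cfsg.Geo.quadSimilarityGroup (⇑Q))) (hx2 : simAut (⇑Q) g ^ 2 = 1)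
    (hgI : simAut (⇑Q) g ∉ Cfsg.Inn (Cfsg.POmega F (⇑Q)))
    {G₀ : Type*} [Group G₀] (φ : G₀ →* GL ι F) (hφ : Function.Injective φ)
    (d1 : ∀ s, φ s ∈ OmegaGL (⇑Q))
    (d2 : ∀ s, φ s * (g : GL ι F) = (g : GL ι F) * φ s)
    (d3 : ∀ k : GL ι F, k ∈ OmegaGL (⇑Q) → ∀ c : Fˣ,
      k * (g : GL ι F) = Matrix.GeneralLinearGroup.scalar ι c * ((g : GL ι F) * k) →
      ∀ s, ∃ s', k * φ s * k⁻¹ = φ s')
    (d4 : ∀ M : Subgroup (G₀ ⧸ Subgroup.center G₀), M.Normal → (Nat.card ↥M).Coprime 2 → M = ⊥)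
    (d5 : ∀ (h : GL ι F) (τ : F ≃+* F), Cfsg.IsSemisimilarityPair (⇑Q) h τ →
      (∃ c : Fˣ, h * glMap τ (g : GL ι F) =
        Matrix.GeneralLinearGroup.scalar ι c * ((g : GL ι F) * h)) →
      (∀ s, ∃ c : Fˣ, h * glMap τ (φ s) = Matrix.GeneralLinearGroup.scalar ι c * (φ s * h)) →
      τ = RingEquiv.refl F ∧
        ∃ (c : Fˣ) (k : ℕ), h = Matrix.GeneralLinearGroup.scalar ι c * (g : GL ι F) ^ k)
    (A : Subgroup (MulAut (Cfsg.POmega F (⇑Q))))
    (hinn : Cfsg.Inn (Cfsg.POmega F (⇑Q)) ≤ A) :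
    Cfsg.pPrimeCore 2 ↥(A ⊓ Subgroup.centralizer {simAut (⇑Q) g}) = ⊥ := by
  classical
  have : Fact (Nat.Prime 2) := ⟨Nat.prime_two⟩
  set x : MulAut (Cfsg.POmega F (⇑Q)) := simAut (⇑Q) g with hx
  have hfinK : Finite (Cfsg.POmega F (⇑Q)) := by
    have : Finite (GL ι F) := Finite.of_injective (fun g : GL ι F => (g : Matrix ι ι F))
      Units.val_injective
    exact inferInstance
  have hsim : ∀ s, φ s ∈ Cfsg.Geo.quadSimilarityGroup (⇑Q) := fun s =>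
    isometryGroup_le_similarity (⇑Q) (OmegaGL_le_isometryGroup (⇑Q) (d1 s))
  set φ' : G₀ →* ↥(Cfsg.Geo.quadSimilarityGroup (⇑Q)) :=
    φ.codRestrict (Cfsg.Geo.quadSimilarityGroup (⇑Q)) hsim with hφ'
  have hφ'coe : ∀ s, ((φ' s : ↥(Cfsg.Geo.quadSimilarityGroup (⇑Q))) : GL ι F) = φ s := fun s => rfl
  set ψ : G₀ →* MulAut (Cfsg.POmega F (⇑Q)) := (simAut (⇑Q)).comp φ' with hψ
  have hpair_of_sim : ∀ k : ↥(Cfsg.Geo.quadSimilarityGroup (⇑Q)),
      Cfsg.IsSemisimilarityPair (⇑Q) (k : GL ι F) (RingEquiv.refl F) := by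
    intro k
    obtain ⟨c, hc⟩ := k.2
    exact ⟨c, fun v => hc v⟩
  have hglrefl : ∀ k : GL ι F, glMap (RingEquiv.refl F) k = k := fun k => glMap_refl k
  -- `ψ s` is inner and commutes with `x`
  have hψInn : ∀ s, ψ s ∈ Cfsg.Inn (Cfsg.POmega F (⇑Q)) := by
    intro s
    rw [Inn_eq]
    exact ⟨φ' s, d1 s, rfl⟩
  have hψx : ∀ s, ψ s ∈ Subgroup.centralizer {x} := by
    intro s
    rw [Subgroup.mem_centralizer_singleton_iff]
    show simAut (⇑Q) (φ' s) * simAut (⇑Q) g = simAut (⇑Q) g * simAut (⇑Q) (φ' s)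
    rw [← map_mul, ← map_mul]
    congr 1
    apply Subtype.ext
    exact d2 s
  -- the kernel of `ψ`
  have hscal_cent : ∀ c : Fˣ, ∀ k : GL ι F,
      Matrix.GeneralLinearGroup.scalar ι c * k = k * Matrix.GeneralLinearGroup.scalar ι c :=
    fun c k => Matrix.GeneralLinearGroup.scalar_commute c k
  have hker : ψ.ker = Subgroup.center G₀ := by
    ext s
    rw [MonoidHom.mem_ker, Subgroup.mem_center_iff]
    constructor
    · intro h1 s'
      have h2 : simAut (⇑Q) (φ' s) = 1 := h1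
      obtain ⟨l, hl⟩ := (simAut_eq_one_iff Q hQ h7 (φ' s)).mp h2
      apply hφ
      rw [map_mul, map_mul]
      apply Units.ext
      rw [Units.val_mul, Units.val_mul]
      have : ((φ s : GL ι F) : Matrix ι ι F) = l • (1 : Matrix ι ι F) := hl
      rw [this, Matrix.mul_smul, Matrix.smul_mul, Matrix.mul_one, Matrix.one_mul]
    · intro hs
      obtain ⟨-, c, k, hck⟩ := d5 (φ s) (RingEquiv.refl F) (hpair_of_sim (φ' s))
        ⟨1, by rw [hglrefl, map_one, one_mul]; exact d2 s⟩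
        (fun s' => ⟨1, by rw [hglrefl, map_one, one_mul, ← map_mul, ← map_mul, hs s']⟩)
      -- `ψ s = x ^ k`
      have h1 : ψ s = x ^ k := by
        show simAut (⇑Q) (φ' s) = (simAut (⇑Q) g) ^ k
        rw [← map_pow]
        apply simAut_eq_of_scalar_mul (⇑Q) _ _ c
        rw [hφ'coe, hck]
        rfl
      rcases Nat.even_or_odd k with hk | hk
      · obtain ⟨j, rfl⟩ := hk
        rw [h1, ← two_mul, pow_mul, hx2, one_pow]
      · exfalso
        obtain ⟨j, rfl⟩ := hk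
        apply hgI
        have h2 : x ^ (2 * j + 1) = x := by
          rw [pow_succ, pow_mul, hx2, one_pow, one_mul]
        rw [← h2, ← h1]
        exact hψInn s
  have hEP := noNormal_range ψ hker 2 d4
  have hEI : ψ.range ≤ Cfsg.Inn (Cfsg.POmega F (⇑Q)) ⊓ Subgroup.centralizer {x} := by
    rintro _ ⟨s, rfl⟩
    exact ⟨hψInn s, hψx s⟩
  -- normalised
  have hEn : ∀ b ∈ Cfsg.Inn (Cfsg.POmega F (⇑Q)) ⊓ Subgroup.centralizer {x},
      ∀ e ∈ ψ.range, b * e * b⁻¹ ∈ ψ.range := by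
    rintro b ⟨hb1, hb2⟩ _ ⟨s, rfl⟩
    rw [Inn_eq] at hb1
    obtain ⟨k, hk, rfl⟩ := hb1
    have hk : (k : GL ι F) ∈ OmegaGL (⇑Q) := hk
    have hb2 : simAut (⇑Q) k ∈ Subgroup.centralizer {x} := hb2
    rw [Subgroup.mem_centralizer_singleton_iff] at hb2
    obtain ⟨c, hc⟩ := comm_simAut_pair Q hQ h7 (k : GL ι F) (RingEquiv.refl F) (hpair_of_sim k)
      (simAut (⇑Q) k) ((isInduced_iff (⇑Q) k _).mpr rfl) g hb2
    rw [hglrefl] at hc
    obtain ⟨s', hs'⟩ := d3 (k : GL ι F) hk c hc s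
    refine ⟨s', ?_⟩
    show simAut (⇑Q) (φ' s') = simAut (⇑Q) k * simAut (⇑Q) (φ' s) * (simAut (⇑Q) k)⁻¹
    rw [← map_inv, ← map_mul, ← map_mul]
    congr 1
    apply Subtype.ext
    exact hs'.symm
  -- centraliser
  have hEc : ∀ a : MulAut (Cfsg.POmega F (⇑Q)), a ∈ Subgroup.centralizer {x} →
      (∀ e ∈ ψ.range, a * e = e * a) → a ∈ Subgroup.zpowers x := by
    intro a hax ha
    obtain ⟨h, τ, hp, hi⟩ := (mem_gammaPOmega_iff (⇑Q) a).mp (by rw [htop]; exact Subgroup.mem_top a)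
    rw [Subgroup.mem_centralizer_singleton_iff] at hax
    have hcg := comm_simAut_pair Q hQ h7 h τ hp a hi g hax
    have hcs : ∀ s, ∃ c : Fˣ, h * glMap τ (φ s) =
        Matrix.GeneralLinearGroup.scalar ι c * (φ s * h) := by
      intro s
      exact comm_simAut_pair Q hQ h7 h τ hp a hi (φ' s) (ha _ ⟨s, rfl⟩)
    obtain ⟨hτ, c, k, hck⟩ := d5 h τ hp hcg hcs
    subst hτ
    have hmem : h ∈ Cfsg.Geo.quadSimilarityGroup (⇑Q) := by
      obtain ⟨c₀, hc₀⟩ := hp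
      exact ⟨c₀, fun v => hc₀ v⟩
    have h1 : a = simAut (⇑Q) ⟨h, hmem⟩ := (isInduced_iff (⇑Q) ⟨h, hmem⟩ a).mp hi
    have h2 : simAut (⇑Q) ⟨h, hmem⟩ = x ^ k := by
      rw [hx, ← map_pow]
      apply simAut_eq_of_scalar_mul (⇑Q) _ _ c
      exact hck
    rw [h1, h2]
    exact Subgroup.pow_mem _ (Subgroup.mem_zpowers x) k
  exact core_eq_bot_of_noNormal' A x 2 hinn hx2 ψ.range hEI hEP hEn hEc

end Cfsg.Agent.Lib.Helper37.LBM
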