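import Mathlib
import Cfsg.Agent.Lib.Helper37.LBM.Engine

set_option autoImplicit false
set_option linter.unusedSectionVars false
set_option linter.unusedVariables false

/-!
# The commutator subgroup of the centraliser of a similarity in the isometry group

`centO Q g = O(Q) ⊓ C_{GL}(g)`; its commutator subgroup lies in `Ω(Q)`, commutes with `g`, and is
normalised by every element of `O(Q)` commuting with `g` up to a scalar.  Hence `d1`, `d2`, `d3`
of `lb_pomega_generic` hold as soon as `φ.range = ⁅centO Q g, centO Q g⁆`.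
-/

namespace Cfsg.Agent.Lib.Helper37.LBM

open Matrix Cfsg.Agent.Lib.Helper36

variable {ι : Type} [Fintype ι] [DecidableEq ι] {F : Type*} [Field F]

/-- the centraliser of `g` in the isometry group, as a subgroup of `GL` -/
def centO (Q : (ι → F) → F) (g : GL ι F) : Subgroup (GL ι F) :=
  Cfsg.isometryGroup F Q ⊓ Subgroup.centralizer {g}

theorem mem_centO_iff (Q : (ι → F) → F) (g s : GL ι F) :
    s ∈ centO Q g ↔ s ∈ Cfsg.isometryGroup F Q ∧ s * g = g * s := by
  unfold centO
  rw [Subgroup.mem_inf, Subgroup.mem_centralizer_singleton_iff]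

theorem OmegaGL_eq_commutator (Q : (ι → F) → F) :
    OmegaGL Q = ⁅Cfsg.isometryGroup F Q, Cfsg.isometryGroup F Q⁆ := by
  unfold OmegaGL Cfsg.Omega
  rw [commutator_def, Subgroup.map_commutator, ← MonoidHom.range_eq_map, Subgroup.range_subtype]

theorem commutator_centO_le_OmegaGL (Q : (ι → F) → F) (g : GL ι F) :
    ⁅centO Q g, centO Q g⁆ ≤ OmegaGL Q := by
  rw [OmegaGL_eq_commutator]
  exact Subgroup.commutator_mono inf_le_left inf_le_left

theorem commutator_centO_commute (Q : (ι → F) → F) (g : GL ι F) (s : GL ι F)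
    (hs : s ∈ ⁅centO Q g, centO Q g⁆) : s * g = g * s := by
  have hle : ⁅centO Q g, centO Q g⁆ ≤ Subgroup.centralizer {g} := by
    rw [Subgroup.commutator_le]
    intro a ha b hb
    have ha' : a ∈ Subgroup.centralizer {g} := ha.2
    have hb' : b ∈ Subgroup.centralizer {g} := hb.2
    exact Subgroup.commutator_mem_commutator ha' hb' |> fun h =>
      (Subgroup.commutator_le.mpr (fun x hx y hy =>
        (Subgroup.centralizer {g}).mul_mem ((Subgroup.centralizer {g}).mul_mem
          ((Subgroup.centralizer {g}).mul_mem hx hy) ((Subgroup.centralizer {g}).inv_mem hx))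
          ((Subgroup.centralizer {g}).inv_mem hy))) h
  have := hle hs
  rw [Subgroup.mem_centralizer_singleton_iff] at this
  exact this

/-- an isometry commuting with `g` up to a scalar normalises `centO Q g` -/
theorem conj_mem_centO (Q : (ι → F) → F) (g k : GL ι F) (hk : k ∈ Cfsg.isometryGroup F Q)
    (c : Fˣ) (hc : k * g = Matrix.GeneralLinearGroup.scalar ι c * (g * k)) (s : GL ι F)
    (hs : s ∈ centO Q g) : k * s * k⁻¹ ∈ centO Q g := by
  rw [mem_centO_iff] at hs ⊢
  refine ⟨(Cfsg.isometryGroup F Q).mul_mem ((Cfsg.isometryGroup F Q).mul_mem hk hs.1)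
    ((Cfsg.isometryGroup F Q).inv_mem hk), ?_⟩
  have hsc : ∀ y : GL ι F, Matrix.GeneralLinearGroup.scalar ι c * y =
      y * Matrix.GeneralLinearGroup.scalar ι c := fun y =>
    Matrix.GeneralLinearGroup.scalar_commute c y
  -- `k⁻¹ g k = c⁻¹ g`
  have h1 : k⁻¹ * g = (Matrix.GeneralLinearGroup.scalar ι c)⁻¹ * (g * k⁻¹) := by
    have : g * k⁻¹ = Matrix.GeneralLinearGroup.scalar ι c * (k⁻¹ * g) := by
      calc g * k⁻¹ = k⁻¹ * (k * g) * k⁻¹ := by group
        _ = k⁻¹ * (Matrix.GeneralLinearGroup.scalar ι c * (g * k)) * k⁻¹ := by rw [hc]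
        _ = k⁻¹ * Matrix.GeneralLinearGroup.scalar ι c * g := by group
        _ = Matrix.GeneralLinearGroup.scalar ι c * (k⁻¹ * g) := by
          rw [← hsc k⁻¹, mul_assoc]
    rw [this]
    group
  calc k * s * k⁻¹ * g = k * s * (k⁻¹ * g) := by group
    _ = k * s * ((Matrix.GeneralLinearGroup.scalar ι c)⁻¹ * (g * k⁻¹)) := by rw [h1]
    _ = (Matrix.GeneralLinearGroup.scalar ι c)⁻¹ * (k * (s * g) * k⁻¹) := by
      have h2 : ∀ y : GL ι F, y * (Matrix.GeneralLinearGroup.scalar ι c)⁻¹ =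
          (Matrix.GeneralLinearGroup.scalar ι c)⁻¹ * y := by
        intro y
        have := hsc y
        calc y * (Matrix.GeneralLinearGroup.scalar ι c)⁻¹
            = (Matrix.GeneralLinearGroup.scalar ι c)⁻¹ *
              (Matrix.GeneralLinearGroup.scalar ι c * y) *
              (Matrix.GeneralLinearGroup.scalar ι c)⁻¹ := by group
          _ = (Matrix.GeneralLinearGroup.scalar ι c)⁻¹ *
              (y * Matrix.GeneralLinearGroup.scalar ι c) *
              (Matrix.GeneralLinearGroup.scalar ι c)⁻¹ := by rw [this]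
          _ = _ := by group
      calc k * s * ((Matrix.GeneralLinearGroup.scalar ι c)⁻¹ * (g * k⁻¹))
          = (k * s) * (Matrix.GeneralLinearGroup.scalar ι c)⁻¹ * (g * k⁻¹) := by group
        _ = (Matrix.GeneralLinearGroup.scalar ι c)⁻¹ * (k * s) * (g * k⁻¹) := by rw [h2]
        _ = _ := by group
    _ = (Matrix.GeneralLinearGroup.scalar ι c)⁻¹ * (k * (g * s) * k⁻¹) := by rw [hs.2]
    _ = (Matrix.GeneralLinearGroup.scalar ι c)⁻¹ * ((k * g) * s * k⁻¹) := by group
    _ = (Matrix.GeneralLinearGroup.scalar ι c)⁻¹ *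
        ((Matrix.GeneralLinearGroup.scalar ι c * (g * k)) * s * k⁻¹) := by rw [hc]
    _ = g * (k * s * k⁻¹) := by group

/-- an isometry commuting with `g` up to a scalar normalises `⁅centO Q g, centO Q g⁆` -/
theorem conj_mem_commutator_centO (Q : (ι → F) → F) (g k : GL ι F)
    (hk : k ∈ Cfsg.isometryGroup F Q)
    (c : Fˣ) (hc : k * g = Matrix.GeneralLinearGroup.scalar ι c * (g * k)) (s : GL ι F)
    (hs : s ∈ ⁅centO Q g, centO Q g⁆) : k * s * k⁻¹ ∈ ⁅centO Q g, centO Q g⁆ := by
  have hmap : (⁅centO Q g, centO Q g⁆).map (MulAut.conj k).toMonoidHom ≤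
      ⁅centO Q g, centO Q g⁆ := by
    rw [Subgroup.map_commutator]
    apply Subgroup.commutator_mono <;>
    · rintro _ ⟨y, hy, rfl⟩
      exact conj_mem_centO Q g k hk c hc y hy
  exact hmap ⟨s, hs, rfl⟩

/-- `d1`, `d2`, `d3` of `lb_pomega_generic` from `φ.range = ⁅centO Q g, centO Q g⁆` -/
theorem d123_of_range_eq (Q : (ι → F) → F) (g : GL ι F) {G₀ : Type*} [Group G₀]
    (φ : G₀ →* GL ι F) (hrange : φ.range = ⁅centO Q g, centO Q g⁆) :
    (∀ s, φ s ∈ OmegaGL Q) ∧ (∀ s, φ s * g = g * φ s) ∧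
    (∀ k : GL ι F, k ∈ OmegaGL Q → ∀ c : Fˣ,
      k * g = Matrix.GeneralLinearGroup.scalar ι c * (g * k) →
      ∀ s, ∃ s', k * φ s * k⁻¹ = φ s') := by
  have hmem : ∀ s, φ s ∈ ⁅centO Q g, centO Q g⁆ := fun s => by
    rw [← hrange]; exact ⟨s, rfl⟩
  refine ⟨fun s => commutator_centO_le_OmegaGL Q g (hmem s),
    fun s => commutator_centO_commute Q g _ (hmem s), ?_⟩
  intro k hk c hc s
  have h1 := conj_mem_commutator_centO Q g k (OmegaGL_le_isometryGroup Q hk) c hc _ (hmem s)
  rw [← hrange] at h1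
  obtain ⟨s', hs'⟩ := h1
  exact ⟨s', hs'.symm⟩

end Cfsg.Agent.Lib.Helper37.LBM
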