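import Mathlib
import Cfsg.Agent.Lib.Helper36.LocalBalance.SmallOmega

set_option autoImplicit false

/-!
# `no normal p'-subgroup` for `(G₁ × G₂) / Z(G₁ × G₂)`
-/

namespace Cfsg.Agent.Lib.Helper37.LBM

open Cfsg.Agent.Lib.Helper36.LocalBalance

/-- `(G₁ × G₂)/Z ≃ G₁/Z₁ × G₂/Z₂` -/
noncomputable def prodQuotCenterEquiv (G₁ G₂ : Type*) [Group G₁] [Group G₂] :
    (G₁ × G₂) ⧸ Subgroup.center (G₁ × G₂) ≃*
      (G₁ ⧸ Subgroup.center G₁) × (G₂ ⧸ Subgroup.center G₂) := by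
  let π : G₁ × G₂ →* (G₁ ⧸ Subgroup.center G₁) × (G₂ ⧸ Subgroup.center G₂) :=
    MonoidHom.prodMap (QuotientGroup.mk' (Subgroup.center G₁)) (QuotientGroup.mk' (Subgroup.center G₂))
  have hsurj : Function.Surjective π := by
    rintro ⟨a, b⟩
    obtain ⟨a', rfl⟩ := QuotientGroup.mk'_surjective _ a
    obtain ⟨b', rfl⟩ := QuotientGroup.mk'_surjective _ b
    exact ⟨(a', b'), rfl⟩
  have hker : π.ker = Subgroup.center (G₁ × G₂) := by
    ext ⟨a, b⟩
    rw [MonoidHom.mem_ker, Subgroup.center_prod, Subgroup.mem_prod]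
    constructor
    · intro h
      have h1 := congrArg Prod.fst h
      have h2 := congrArg Prod.snd h
      exact ⟨(QuotientGroup.eq_one_iff a).mp h1, (QuotientGroup.eq_one_iff b).mp h2⟩
    · rintro ⟨h1, h2⟩
      exact Prod.ext ((QuotientGroup.eq_one_iff a).mpr h1) ((QuotientGroup.eq_one_iff b).mpr h2)
  exact (QuotientGroup.quotientMulEquivOfEq hker.symm).trans
    (QuotientGroup.quotientKerEquivOfSurjective π hsurj)

theorem noNormal_prod_quot_center {G₁ G₂ : Type*} [Group G₁] [Group G₂] (p : ℕ)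
    (h₁ : ∀ M : Subgroup (G₁ ⧸ Subgroup.center G₁), M.Normal → (Nat.card ↥M).Coprime p → M = ⊥)
    (h₂ : ∀ M : Subgroup (G₂ ⧸ Subgroup.center G₂), M.Normal → (Nat.card ↥M).Coprime p → M = ⊥)
    (M : Subgroup ((G₁ × G₂) ⧸ Subgroup.center (G₁ × G₂))) (hM : M.Normal)
    (hc : (Nat.card ↥M).Coprime p) : M = ⊥ :=
  noNormal_of_equiv (prodQuotCenterEquiv G₁ G₂) p (noNormal_prod p h₁ h₂) M hM hc

/-- a commutative group modulo its centre is trivial -/
theorem noNormal_of_comm {G : Type*} [Group G] (hG : ∀ a b : G, a * b = b * a) (p : ℕ)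
    (M : Subgroup (G ⧸ Subgroup.center G)) (hM : M.Normal) (hc : (Nat.card ↥M).Coprime p) :
    M = ⊥ := by
  rw [eq_bot_iff]
  intro x _
  rw [Subgroup.mem_bot]
  obtain ⟨a, rfl⟩ := QuotientGroup.mk_surjective x
  rw [QuotientGroup.eq_one_iff, Subgroup.mem_center_iff]
  intro b
  exact hG b a

end Cfsg.Agent.Lib.Helper37.LBM
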