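import Mathlib
import Cfsg.Agent.Lib.Helper37.LBM.Norm
import Cfsg.Agent.Lib.Helper37.LBM.BlockGL
import Cfsg.Agent.Lib.Helper37.LBM.ProdQuot
import Cfsg.Agent.Lib.Helper36.OrthSumMatrix
import Cfsg.Agent.Lib.Helper44.LBNoNormal
import Cfsg.Agent.Lib.Helper44.LBBlockCent
import Cfsg.Agent.Lib.Helper89.OrthInvDecomp
import Cfsg.Agent.Lib.Helper89.OrthInvBlock

set_option autoImplicit false
set_option linter.unusedSectionVars false
set_option linter.unusedVariables false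

/-!
# S2733, graph half, case (a): involutory isometries of determinant `-1`

`C_O(t) = O(U) × O(W)` for the eigenspaces of `t`; `E` = image of `Ω(U) × Ω(W)`.
Modules used: helper89 `involution_decomp`, `isometry_commute_block_iff`; helper44 `block_cent`,
`noNormal_OmegaGL`; the generic engine `lb_pomega_generic`.
-/

namespace Cfsg.Agent.Lib.Helper37.LBM

open Matrix Cfsg.Agent.Lib.Helper36 Cfsg.Agent.Lib.Helper36.AutO
  Cfsg.Agent.Lib.Helper36.LocalBalance Cfsg.Agent.Lib.Helper13 Cfsg.Agent.Lib.Helper44.LB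
  Cfsg.Agent.Lib.Helper89.OrthInvDecomp Cfsg.Agent.Lib.Helper89.OrthInvBlock

/-! ### the centraliser of the involution in coordinates -/

section cent

variable {ι ι₁ ι₂ : Type} [Fintype ι] [DecidableEq ι] [Fintype ι₁] [DecidableEq ι₁]
  [Fintype ι₂] [DecidableEq ι₂] {F : Type*} [Field F]

/-- `Ψ = conjE ∘ blkGL` -/
noncomputable def psiE (E : Matrix ι (ι₁ ⊕ ι₂) F) (E' : Matrix (ι₁ ⊕ ι₂) ι F) (h1 : E * E' = 1)
    (h2 : E' * E = 1) : GL ι₁ F × GL ι₂ F →* GL ι F :=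
  (conjE E E' h1 h2).comp blkGL

theorem psiE_coe (E : Matrix ι (ι₁ ⊕ ι₂) F) (E' : Matrix (ι₁ ⊕ ι₂) ι F) (h1 : E * E' = 1)
    (h2 : E' * E = 1) (X : GL ι₁ F × GL ι₂ F) :
    ((psiE E E' h1 h2 X : GL ι F) : Matrix ι ι F) =
      E * Matrix.fromBlocks (X.1 : Matrix ι₁ ι₁ F) 0 0 (X.2 : Matrix ι₂ ι₂ F) * E' := rfl

theorem psiE_injective (E : Matrix ι (ι₁ ⊕ ι₂) F) (E' : Matrix (ι₁ ⊕ ι₂) ι F) (h1 : E * E' = 1)
    (h2 : E' * E = 1) : Function.Injective (psiE E E' h1 h2) :=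
  (conjE_injective E E' h1 h2).comp blkGL_injective

/-- the centraliser of `t = E diag(-1,1) E'` in `O(Q)` is the image of `O(Q₁) × O(Q₂)` -/
theorem centO_eq_map (h2F : (2 : F) ≠ 0) (Q : QuadraticForm F (ι → F))
    (Q₁ : QuadraticForm F (ι₁ → F)) (Q₂ : QuadraticForm F (ι₂ → F))
    (E : Matrix ι (ι₁ ⊕ ι₂) F) (E' : Matrix (ι₁ ⊕ ι₂) ι F) (h1 : E * E' = 1) (h2 : E' * E = 1)
    (hQE : ∀ w : ι₁ ⊕ ι₂ → F, Q (E *ᵥ w) = sumQF Q₁ Q₂ w)
    (t : GL ι F)
    (htE : (t : Matrix ι ι F) * E = E * Matrix.fromBlocks (-1 : Matrix ι₁ ι₁ F) 0 0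
        (1 : Matrix ι₂ ι₂ F)) :
    centO (⇑Q) t = ((Cfsg.isometryGroup F (⇑Q₁)).prod (Cfsg.isometryGroup F (⇑Q₂))).map
      (psiE E E' h1 h2) := by
  set D : Matrix (ι₁ ⊕ ι₂) (ι₁ ⊕ ι₂) F := Matrix.fromBlocks (-1 : Matrix ι₁ ι₁ F) 0 0
    (1 : Matrix ι₂ ι₂ F) with hD
  have hE't : E' * (t : Matrix ι ι F) = D * E' := by
    calc E' * (t : Matrix ι ι F) = E' * (t : Matrix ι ι F) * (E * E') := by
          rw [h1, Matrix.mul_one]
      _ = E' * ((t : Matrix ι ι F) * E) * E' := by simp only [Matrix.mul_assoc]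
      _ = E' * (E * D) * E' := by rw [htE]
      _ = (E' * E) * D * E' := by simp only [Matrix.mul_assoc]
      _ = D * E' := by rw [h2, Matrix.one_mul]
  have hQE' : ∀ v : ι → F, Q v = sumQF Q₁ Q₂ (E' *ᵥ v) := by
    intro v
    rw [← hQE, Matrix.mulVec_mulVec, h1, Matrix.one_mulVec]
  -- key: description of elements of `centO`
  have key : ∀ s : GL ι F, s ∈ centO (⇑Q) t →
      ∃ (S₁ : Matrix ι₁ ι₁ F) (S₂ : Matrix ι₂ ι₂ F),
        E' * (s : Matrix ι ι F) * E = Matrix.fromBlocks S₁ 0 0 S₂ ∧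
        (∀ u, Q₁ (S₁ *ᵥ u) = Q₁ u) ∧ (∀ u, Q₂ (S₂ *ᵥ u) = Q₂ u) := by
    intro s hs
    rw [mem_centO_iff] at hs
    obtain ⟨hs1, hs2⟩ := hs
    have hs1' := (mem_isometryGroup_iff' (⇑Q) s).mp hs1
    apply (isometry_commute_block_iff h2F Q₁ Q₂ (E' * (s : Matrix ι ι F) * E)).mp
    constructor
    · intro w
      rw [← hQE, Matrix.mulVec_mulVec]
      have e : E * (E' * (s : Matrix ι ι F) * E) = (s : Matrix ι ι F) * E := by
        calc E * (E' * (s : Matrix ι ι F) * E) = (E * E') * (s : Matrix ι ι F) * E := by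
              simp only [Matrix.mul_assoc]
          _ = (s : Matrix ι ι F) * E := by rw [h1, Matrix.one_mul]
      rw [e, ← Matrix.mulVec_mulVec, hs1', hQE]
    · have hs2' : (s : Matrix ι ι F) * (t : Matrix ι ι F) = (t : Matrix ι ι F) * (s : Matrix ι ι F) := by
        rw [← Units.val_mul, ← Units.val_mul, hs2]
      calc E' * (s : Matrix ι ι F) * E * D = E' * (s : Matrix ι ι F) * (E * D) := by
            simp only [Matrix.mul_assoc]
        _ = E' * (s : Matrix ι ι F) * ((t : Matrix ι ι F) * E) := by rw [htE]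
        _ = E' * ((s : Matrix ι ι F) * (t : Matrix ι ι F)) * E := by simp only [Matrix.mul_assoc]
        _ = E' * ((t : Matrix ι ι F) * (s : Matrix ι ι F)) * E := by rw [hs2']
        _ = (E' * (t : Matrix ι ι F)) * (s : Matrix ι ι F) * E := by simp only [Matrix.mul_assoc]
        _ = D * (E' * (s : Matrix ι ι F) * E) := by rw [hE't]; simp only [Matrix.mul_assoc]
  ext s
  constructor
  · intro hs
    obtain ⟨S₁, S₂, hS, hS₁, hS₂⟩ := key s hs
    obtain ⟨T₁, T₂, hT, hT₁, hT₂⟩ := key s⁻¹ ((centO (⇑Q) t).inv_mem hs)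
    have hprod : Matrix.fromBlocks S₁ 0 0 S₂ * Matrix.fromBlocks T₁ 0 0 T₂ = 1 := by
      rw [← hS, ← hT]
      calc E' * (s : Matrix ι ι F) * E * (E' * ((s⁻¹ : GL ι F) : Matrix ι ι F) * E)
          = E' * ((s : Matrix ι ι F) * (E * E') * ((s⁻¹ : GL ι F) : Matrix ι ι F)) * E := by
            simp only [Matrix.mul_assoc]
        _ = 1 := by
            rw [h1, Matrix.mul_one, ← Units.val_mul, mul_inv_cancel, Units.val_one,
              Matrix.mul_one, h2]
    have hprod' : Matrix.fromBlocks T₁ 0 0 T₂ * Matrix.fromBlocks S₁ 0 0 S₂ = 1 := by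
      rw [← hS, ← hT]
      calc E' * ((s⁻¹ : GL ι F) : Matrix ι ι F) * E * (E' * (s : Matrix ι ι F) * E)
          = E' * (((s⁻¹ : GL ι F) : Matrix ι ι F) * (E * E') * (s : Matrix ι ι F)) * E := by
            simp only [Matrix.mul_assoc]
        _ = 1 := by
            rw [h1, Matrix.mul_one, ← Units.val_mul, inv_mul_cancel, Units.val_one,
              Matrix.mul_one, h2]
    rw [Matrix.fromBlocks_multiply, ← Matrix.fromBlocks_one, Matrix.fromBlocks_inj] at hprod hprod'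
    simp only [Matrix.mul_zero, Matrix.zero_mul, add_zero, zero_add] at hprod hprod'
    set X₁ : GL ι₁ F := ⟨S₁, T₁, hprod.1, hprod'.1⟩ with hX₁
    set X₂ : GL ι₂ F := ⟨S₂, T₂, hprod.2.2.2, hprod'.2.2.2⟩ with hX₂
    refine ⟨(X₁, X₂), ⟨?_, ?_⟩, ?_⟩
    · exact (mem_isometryGroup_iff' (⇑Q₁) X₁).mpr hS₁
    · exact (mem_isometryGroup_iff' (⇑Q₂) X₂).mpr hS₂
    · apply Units.ext
      rw [psiE_coe]
      show E * Matrix.fromBlocks S₁ 0 0 S₂ * E' = (s : Matrix ι ι F)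
      rw [← hS]
      calc E * (E' * (s : Matrix ι ι F) * E) * E' = (E * E') * (s : Matrix ι ι F) * (E * E') := by
            simp only [Matrix.mul_assoc]
        _ = (s : Matrix ι ι F) := by rw [h1, Matrix.one_mul, Matrix.mul_one]
  · rintro ⟨⟨X₁, X₂⟩, ⟨hX₁, hX₂⟩, rfl⟩
    have hX₁' := (mem_isometryGroup_iff' (⇑Q₁) X₁).mp hX₁
    have hX₂' := (mem_isometryGroup_iff' (⇑Q₂) X₂).mp hX₂
    obtain ⟨hiso, hcomm⟩ := (isometry_commute_block_iff h2F Q₁ Q₂
      (Matrix.fromBlocks (X₁ : Matrix ι₁ ι₁ F) 0 0 (X₂ : Matrix ι₂ ι₂ F))).mpr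
      ⟨_, _, rfl, hX₁', hX₂'⟩
    rw [mem_centO_iff]
    constructor
    · rw [mem_isometryGroup_iff']
      intro v
      rw [psiE_coe, hQE', Matrix.mulVec_mulVec]
      have e : E' * (E * Matrix.fromBlocks (X₁ : Matrix ι₁ ι₁ F) 0 0 (X₂ : Matrix ι₂ ι₂ F) * E') =
          Matrix.fromBlocks (X₁ : Matrix ι₁ ι₁ F) 0 0 (X₂ : Matrix ι₂ ι₂ F) * E' := by
        calc E' * (E * Matrix.fromBlocks (X₁ : Matrix ι₁ ι₁ F) 0 0 (X₂ : Matrix ι₂ ι₂ F) * E')
            = (E' * E) * Matrix.fromBlocks (X₁ : Matrix ι₁ ι₁ F) 0 0 (X₂ : Matrix ι₂ ι₂ F) * E' := by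
              simp only [Matrix.mul_assoc]
          _ = _ := by rw [h2, Matrix.one_mul]
      rw [e, ← Matrix.mulVec_mulVec, hiso, ← hQE']
    · apply Units.ext
      rw [Units.val_mul, Units.val_mul, psiE_coe]
      show E * Matrix.fromBlocks (X₁ : Matrix ι₁ ι₁ F) 0 0 (X₂ : Matrix ι₂ ι₂ F) * E' *
        (t : Matrix ι ι F) = (t : Matrix ι ι F) *
        (E * Matrix.fromBlocks (X₁ : Matrix ι₁ ι₁ F) 0 0 (X₂ : Matrix ι₂ ι₂ F) * E')
      calc E * Matrix.fromBlocks (X₁ : Matrix ι₁ ι₁ F) 0 0 (X₂ : Matrix ι₂ ι₂ F) * E' *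
            (t : Matrix ι ι F)
          = E * Matrix.fromBlocks (X₁ : Matrix ι₁ ι₁ F) 0 0 (X₂ : Matrix ι₂ ι₂ F) *
            (E' * (t : Matrix ι ι F)) := by simp only [Matrix.mul_assoc]
        _ = E * (Matrix.fromBlocks (X₁ : Matrix ι₁ ι₁ F) 0 0 (X₂ : Matrix ι₂ ι₂ F) * D) * E' := by
            rw [hE't]; simp only [Matrix.mul_assoc]
        _ = E * (D * Matrix.fromBlocks (X₁ : Matrix ι₁ ι₁ F) 0 0 (X₂ : Matrix ι₂ ι₂ F)) * E' := by
            rw [hcomm]
        _ = (E * D) * Matrix.fromBlocks (X₁ : Matrix ι₁ ι₁ F) 0 0 (X₂ : Matrix ι₂ ι₂ F) * E' := by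
            simp only [Matrix.mul_assoc]
        _ = _ := by rw [← htE]; simp only [Matrix.mul_assoc]

end cent

section main

theorem range_prodMap_subtype {G₁ G₂ : Type*} [Group G₁] [Group G₂] (H₁ : Subgroup G₁)
    (H₂ : Subgroup G₂) : (MonoidHom.prodMap H₁.subtype H₂.subtype).range = H₁.prod H₂ := by
  ext ⟨a, b⟩
  constructor
  · rintro ⟨⟨x, y⟩, h⟩
    have h1 := congrArg Prod.fst h
    have h2 := congrArg Prod.snd h
    simp only [MonoidHom.prodMap, MonoidHom.coe_prodMap, Prod.map_apply,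
      Subgroup.coe_subtype] at h1 h2
    rw [Subgroup.mem_prod]
    exact ⟨h1 ▸ x.2, h2 ▸ y.2⟩
  · rintro ⟨ha, hb⟩
    exact ⟨(⟨a, ha⟩, ⟨b, hb⟩), rfl⟩

theorem gl_fin_one_comm {F : Type*} [Field F] (a b : GL (Fin 1) F) : a * b = b * a := by
  apply Units.ext
  ext i j
  have hi : i = 0 := Subsingleton.elim _ _
  have hj : j = 0 := Subsingleton.elim _ _
  subst hi hj
  simp [Matrix.mul_apply, mul_comm]

variable {F : Type*} [Field F] [Fintype F]

/-- `Ω(Q)/Z` has no odd normal subgroup, `Q` of odd dimension -/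
theorem noNormal_factor [DecidableEq F] (h2 : (2 : F) ≠ 0) (n : ℕ) (hn : Odd n)
    (Q' : QuadraticForm F (Fin n → F)) (hQ' : (QuadraticMap.polarBilin Q').Nondegenerate) :
    ∀ M : Subgroup (↥(OmegaGL (⇑Q')) ⧸ Subgroup.center ↥(OmegaGL (⇑Q'))), M.Normal →
      (Nat.card ↥M).Coprime 2 → M = ⊥ := by
  by_cases h3 : 3 ≤ n
  · exact noNormal_OmegaGL h2 h3 Q' hQ'
  · have h1 : n = 1 := by
      obtain ⟨j, rfl⟩ := hn
      omega
    subst h1
    intro M hM hc
    exact noNormal_of_comm (fun a b => Subtype.ext (gl_fin_one_comm (a : GL (Fin 1) F) b)) 2 M hM hc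

omit [Fintype F] in
theorem map_mul_rect {ι κ : Type} [Fintype ι] [Fintype κ] {ι' : Type} [Fintype ι'] (τ : F ≃+* F)
    (A : Matrix ι κ F) (B : Matrix κ ι' F) : (A * B).map τ = A.map τ * B.map τ :=
  Matrix.map_mul

variable {ι : Type} [Fintype ι] [DecidableEq ι]

set_option maxHeartbeats 1600000 in
/-- **case (a)**: involutory isometries of determinant `-1` -/
theorem lb_involution (h2 : (2 : F) ≠ 0) (Q : QuadraticForm F (ι → F))
    (hQ : (QuadraticMap.polarBilin Q).Nondegenerate) (h7 : 7 ≤ Fintype.card ι) (M : ℕ)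
    (hcard : Fintype.card ι = 2 * M) (htop : Cfsg.gammaPOmega F (⇑Q) = ⊤)
    (t : ↥(Cfsg.Geo.quadSimilarityGroup (⇑Q)))
    (ht : (t : GL ι F) ∈ Cfsg.isometryGroup F (⇑Q)) (htt : (t : GL ι F) * (t : GL ι F) = 1)
    (hdet : ((t : GL ι F) : Matrix ι ι F).det = -1)
    (hgI : simAut (⇑Q) t ∉ Cfsg.Inn (Cfsg.POmega F (⇑Q)))
    (A : Subgroup (MulAut (Cfsg.POmega F (⇑Q))))
    (hinn : Cfsg.Inn (Cfsg.POmega F (⇑Q)) ≤ A) :
    Cfsg.pPrimeCore 2 ↥(A ⊓ Subgroup.centralizer {simAut (⇑Q) t}) = ⊥ := by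
  classical
  obtain ⟨k, l, E, E', Q₁, Q₂, h1, h2', hQ₁, hQ₂, hQE, htE, hdetk⟩ :=
    involution_decomp h2 Q hQ (t : GL ι F) ht htt
  -- parities
  have hk : Odd k := by
    by_contra hk
    rw [Nat.not_odd_iff_even] at hk
    rw [hdet, hk.neg_one_pow] at hdetk
    apply h2
    linear_combination -hdetk
  have hkl : 2 * M = k + l := by
    rw [← hcard, card_eq_of_inv E E' h1 h2', Fintype.card_sum, Fintype.card_fin, Fintype.card_fin]
  have hl : Odd l := by
    obtain ⟨j, rfl⟩ := hk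
    exact ⟨M - j - 1, by omega⟩
  have h3 : 3 ≤ Fintype.card (Fin k) ∨ 3 ≤ Fintype.card (Fin l) := by
    rw [Fintype.card_fin, Fintype.card_fin]
    omega
  have hx2 : simAut (⇑Q) t ^ 2 = 1 := by
    rw [← map_pow]
    have : t ^ 2 = 1 := by
      apply Subtype.ext
      rw [pow_two]
      exact htt
    rw [this, map_one]
  set φ : ↥(OmegaGL (⇑Q₁)) × ↥(OmegaGL (⇑Q₂)) →* GL ι F :=
    (psiE E E' h1 h2').comp (MonoidHom.prodMap (OmegaGL (⇑Q₁)).subtype (OmegaGL (⇑Q₂)).subtype)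
    with hφdef
  have hφ : Function.Injective φ := by
    apply (psiE_injective E E' h1 h2').comp
    intro x y hxy
    have h3 := congrArg Prod.fst hxy
    have h4 := congrArg Prod.snd hxy
    exact Prod.ext (Subtype.ext h3) (Subtype.ext h4)
  have hφcoe : ∀ s : ↥(OmegaGL (⇑Q₁)) × ↥(OmegaGL (⇑Q₂)), ((φ s : GL ι F) : Matrix ι ι F) =
      E * Matrix.fromBlocks ((s.1 : GL (Fin k) F) : Matrix (Fin k) (Fin k) F) 0 0
        ((s.2 : GL (Fin l) F) : Matrix (Fin l) (Fin l) F) * E' := fun s => rfl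
  have hrange : φ.range = ⁅centO (⇑Q) (t : GL ι F), centO (⇑Q) (t : GL ι F)⁆ := by
    rw [centO_eq_map h2 Q Q₁ Q₂ E E' h1 h2' hQE (t : GL ι F) htE, ← Subgroup.map_commutator,
      Subgroup.commutator_prod_prod, ← OmegaGL_eq_commutator, ← OmegaGL_eq_commutator, hφdef,
      MonoidHom.range_comp, range_prodMap_subtype]
  obtain ⟨d1, d2, d3⟩ := d123_of_range_eq (⇑Q) (t : GL ι F) φ hrange
  have d4 := noNormal_prod_quot_center 2 (noNormal_factor h2 k hk Q₁ hQ₁)
    (noNormal_factor h2 l hl Q₂ hQ₂)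
  set D : Matrix (Fin k ⊕ Fin l) (Fin k ⊕ Fin l) F := Matrix.fromBlocks (-1 : Matrix (Fin k) (Fin k) F) 0 0
    (1 : Matrix (Fin l) (Fin l) F) with hD
  have htED : ((t : GL ι F) : Matrix ι ι F) = E * D * E' := by
    calc ((t : GL ι F) : Matrix ι ι F) = ((t : GL ι F) : Matrix ι ι F) * (E * E') := by
          rw [h1, Matrix.mul_one]
      _ = (((t : GL ι F) : Matrix ι ι F) * E) * E' := by simp only [Matrix.mul_assoc]
      _ = E * D * E' := by rw [htE]
  refine lb_pomega_generic Q hQ h7 htop t hx2 hgI φ hφ d1 d2 d3 d4 ?_ A hinn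
  -- d5
  intro h τ hp hcg Hs
  obtain ⟨c₀, hc₀⟩ := hcg
  set Eτ : Matrix ι (Fin k ⊕ Fin l) F := E.map τ with hEτ
  set E'τ : Matrix (Fin k ⊕ Fin l) ι F := E'.map τ with hE'τ
  have h1τ : Eτ * E'τ = 1 := by
    rw [hEτ, hE'τ, ← map_mul_rect, h1, Matrix.map_one _ (map_zero τ) (map_one τ)]
  have h2τ : E'τ * Eτ = 1 := by
    rw [hEτ, hE'τ, ← map_mul_rect, h2', Matrix.map_one _ (map_zero τ) (map_one τ)]
  have hDτ : D.map τ = D := by
    rw [hD, Matrix.fromBlocks_map]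
    congr 1
    · ext i j
      simp only [Matrix.map_apply, Matrix.neg_apply, Matrix.one_apply]
      split_ifs
      · rw [map_neg, map_one]
      · rw [neg_zero, map_zero]
    · ext i j; simp
    · ext i j; simp
    · exact Matrix.map_one _ (map_zero τ) (map_one τ)
  set h' : Matrix (Fin k ⊕ Fin l) (Fin k ⊕ Fin l) F := E' * (h : Matrix ι ι F) * Eτ with hh'
  have hh'inv : h' * (E'τ * ((h⁻¹ : GL ι F) : Matrix ι ι F) * E) = 1 := by
    calc h' * (E'τ * ((h⁻¹ : GL ι F) : Matrix ι ι F) * E)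
        = E' * ((h : Matrix ι ι F) * (Eτ * E'τ) * ((h⁻¹ : GL ι F) : Matrix ι ι F)) * E := by
          rw [hh']; simp only [Matrix.mul_assoc]
      _ = 1 := by
          rw [h1τ, Matrix.mul_one, ← Units.val_mul, mul_inv_cancel, Units.val_one, Matrix.mul_one,
            h2']
  have hdet' : IsUnit h'.det := by
    have := congrArg Matrix.det hh'inv
    rw [Matrix.det_mul, Matrix.det_one] at this
    exact IsUnit.of_mul_eq_one _ this
  -- commutation with `D`
  have htτ : ((glMap τ (t : GL ι F) : GL ι F) : Matrix ι ι F) = Eτ * D * E'τ := by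
    rw [glMap_coe, htED, map_mul_rect, map_mul_rect, hDτ]
  have hsc : ∀ (c : Fˣ) (X : GL ι F),
      ((Matrix.GeneralLinearGroup.scalar ι c * X : GL ι F) : Matrix ι ι F) =
        (c : F) • (X : Matrix ι ι F) := by
    intro c X
    rw [Units.val_mul, Matrix.GeneralLinearGroup.coe_scalar, Matrix.scalar_apply,
      ← Matrix.smul_eq_diagonal_mul]
  have ht' : h' * D = (c₀ : F) • (D * h') := by
    have e := congrArg (fun g : GL ι F => (g : Matrix ι ι F)) hc₀
    beta_reduce at e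
    rw [hsc, Units.val_mul, Units.val_mul, htτ, htED] at e
    have e2 := congrArg (fun X : Matrix ι ι F => E' * X * Eτ) e
    beta_reduce at e2
    calc h' * D = E' * ((h : Matrix ι ι F) * (Eτ * D * E'τ)) * Eτ := by
          rw [hh']
          calc E' * (h : Matrix ι ι F) * Eτ * D
              = E' * (h : Matrix ι ι F) * Eτ * D * (E'τ * Eτ) := by rw [h2τ, Matrix.mul_one]
            _ = _ := by simp only [Matrix.mul_assoc]
      _ = E' * ((c₀ : F) • (E * D * E' * (h : Matrix ι ι F))) * Eτ := e2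
      _ = (c₀ : F) • (D * h') := by
          rw [hh', Matrix.mul_smul, Matrix.smul_mul]
          congr 1
          calc E' * (E * D * E' * (h : Matrix ι ι F)) * Eτ
              = (E' * E) * D * (E' * (h : Matrix ι ι F) * Eτ) := by simp only [Matrix.mul_assoc]
            _ = _ := by rw [h2', Matrix.one_mul]
  have H' : ∀ A₁ : GL (Fin k) F, A₁ ∈ OmegaGL (⇑Q₁) → ∀ A₂ : GL (Fin l) F, A₂ ∈ OmegaGL (⇑Q₂) →
      ∃ c : F, h' * (Matrix.fromBlocks (A₁ : Matrix (Fin k) (Fin k) F) 0 0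
        (A₂ : Matrix (Fin l) (Fin l) F)).map τ =
        c • (Matrix.fromBlocks (A₁ : Matrix (Fin k) (Fin k) F) 0 0
          (A₂ : Matrix (Fin l) (Fin l) F) * h') := by
    intro A₁ hA₁ A₂ hA₂
    obtain ⟨c, hc⟩ := Hs (⟨A₁, hA₁⟩, ⟨A₂, hA₂⟩)
    refine ⟨(c : F), ?_⟩
    set B : Matrix (Fin k ⊕ Fin l) (Fin k ⊕ Fin l) F :=
      Matrix.fromBlocks (A₁ : Matrix (Fin k) (Fin k) F) 0 0 (A₂ : Matrix (Fin l) (Fin l) F) with hB
    have e := congrArg (fun g : GL ι F => (g : Matrix ι ι F)) hc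
    beta_reduce at e
    rw [hsc, Units.val_mul, Units.val_mul, glMap_coe, hφcoe] at e
    change (h : Matrix ι ι F) * (E * B * E').map τ = (c : F) • (E * B * E' * (h : Matrix ι ι F)) at e
    rw [map_mul_rect, map_mul_rect] at e
    have e2 := congrArg (fun X : Matrix ι ι F => E' * X * Eτ) e
    beta_reduce at e2
    calc h' * B.map τ = E' * ((h : Matrix ι ι F) * (Eτ * B.map τ * E'τ)) * Eτ := by
          rw [hh']
          calc E' * (h : Matrix ι ι F) * Eτ * B.map τ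
              = E' * (h : Matrix ι ι F) * Eτ * B.map τ * (E'τ * Eτ) := by
                rw [h2τ, Matrix.mul_one]
            _ = _ := by simp only [Matrix.mul_assoc]
      _ = E' * ((c : F) • (E * B * E' * (h : Matrix ι ι F))) * Eτ := e2
      _ = (c : F) • (B * h') := by
          rw [hh', Matrix.mul_smul, Matrix.smul_mul]
          congr 1
          calc E' * (E * B * E' * (h : Matrix ι ι F)) * Eτ
              = (E' * E) * B * (E' * (h : Matrix ι ι F) * Eτ) := by simp only [Matrix.mul_assoc]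
            _ = _ := by rw [h2', Matrix.one_mul]
  obtain ⟨hτ, c₁, c₂, hblk⟩ := block_cent h2 Q₁ Q₂ hQ₁ hQ₂ (by rw [Fintype.card_fin]; exact hk)
    (by rw [Fintype.card_fin]; exact hl) h3 h' hdet' τ ⟨(c₀ : F), ht'⟩ H'
  refine ⟨hτ, ?_⟩
  subst hτ
  have hEτ' : Eτ = E := by
    rw [hEτ]; ext i j; rfl
  -- `h = E h' E'`
  have hhE : (h : Matrix ι ι F) = E * h' * E' := by
    rw [hh', hEτ']
    calc (h : Matrix ι ι F) = (E * E') * (h : Matrix ι ι F) * (E * E') := by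
          rw [h1, Matrix.one_mul, Matrix.mul_one]
      _ = _ := by simp only [Matrix.mul_assoc]
  -- similarity
  obtain ⟨ν, hν⟩ := hp
  have hν' : ∀ v : ι → F, Q ((h : Matrix ι ι F) *ᵥ v) = (ν : F) * Q v := fun v => hν v
  have hsum : ∀ w : Fin k ⊕ Fin l → F, sumQF Q₁ Q₂ (h' *ᵥ w) = (ν : F) * sumQF Q₁ Q₂ w := by
    intro w
    have hhE2 : (h : Matrix ι ι F) * E = E * h' := by
      rw [hhE]
      calc E * h' * E' * E = E * h' * (E' * E) := by simp only [Matrix.mul_assoc]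
        _ = E * h' := by rw [h2', Matrix.mul_one]
    rw [← hQE, ← hQE, ← hν', Matrix.mulVec_mulVec, Matrix.mulVec_mulVec, hhE2]
  obtain ⟨u₁, hu₁⟩ : ∃ u : Fin k → F, Q₁ u ≠ 0 := by
    by_contra hcon
    push Not at hcon
    have hk0 : 0 < k := hk.pos
    have hne : (Pi.single (⟨0, hk0⟩ : Fin k) (1 : F) : Fin k → F) ≠ 0 := by
      intro h0
      have := congrFun h0 ⟨0, hk0⟩
      simp at this
    apply hne
    apply hQ₁.1
    intro y
    rw [QuadraticMap.polarBilin_apply_apply, QuadraticMap.polar, hcon, hcon, hcon]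
    ring
  obtain ⟨u₂, hu₂⟩ : ∃ u : Fin l → F, Q₂ u ≠ 0 := by
    by_contra hcon
    push Not at hcon
    have hl0 : 0 < l := hl.pos
    have hne : (Pi.single (⟨0, hl0⟩ : Fin l) (1 : F) : Fin l → F) ≠ 0 := by
      intro h0
      have := congrFun h0 ⟨0, hl0⟩
      simp at this
    apply hne
    apply hQ₂.1
    intro y
    rw [QuadraticMap.polarBilin_apply_apply, QuadraticMap.polar, hcon, hcon, hcon]
    ring
  have hc₁ : c₁ ^ 2 = (ν : F) := by
    have := hsum (Sum.elim u₁ 0)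
    rw [hblk, fromBlocks_diag_mulVec, sumQF_apply, sumQF_apply] at this
    simp only [Sum.elim_comp_inl, Sum.elim_comp_inr, Matrix.smul_mulVec, Matrix.one_mulVec,
      QuadraticMap.map_smul, map_zero, smul_zero, add_zero, smul_eq_mul] at this
    have h3 : (c₁ ^ 2 - (ν : F)) * Q₁ u₁ = 0 := by linear_combination this
    rcases mul_eq_zero.mp h3 with h4 | h4
    · linear_combination h4
    · exact absurd h4 hu₁
  have hc₂ : c₂ ^ 2 = (ν : F) := by
    have := hsum (Sum.elim 0 u₂)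
    rw [hblk, fromBlocks_diag_mulVec, sumQF_apply, sumQF_apply] at this
    simp only [Sum.elim_comp_inl, Sum.elim_comp_inr, Matrix.smul_mulVec, Matrix.one_mulVec,
      QuadraticMap.map_smul, map_zero, smul_zero, zero_add, smul_eq_mul] at this
    have h3 : (c₂ ^ 2 - (ν : F)) * Q₂ u₂ = 0 := by linear_combination this
    rcases mul_eq_zero.mp h3 with h4 | h4
    · linear_combination h4
    · exact absurd h4 hu₂
  have hc₁0 : c₁ ≠ 0 := by
    intro h0
    rw [h0] at hc₁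
    exact ν.ne_zero (by rw [← hc₁]; ring)
  have hcc : (c₂ - c₁) * (c₂ + c₁) = 0 := by linear_combination hc₂ - hc₁
  rcases mul_eq_zero.mp hcc with h4 | h4
  · -- scalar
    have hc21 : c₂ = c₁ := by linear_combination h4
    refine ⟨Units.mk0 c₁ hc₁0, 0, ?_⟩
    apply Units.ext
    rw [pow_zero, mul_one, Matrix.GeneralLinearGroup.coe_scalar, Matrix.scalar_apply, hhE, hblk,
      hc21, ← Matrix.smul_one_eq_diagonal]
    have : Matrix.fromBlocks (c₁ • (1 : Matrix (Fin k) (Fin k) F)) 0 0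
        (c₁ • (1 : Matrix (Fin l) (Fin l) F)) = c₁ • (1 : Matrix (Fin k ⊕ Fin l) (Fin k ⊕ Fin l) F) := by
      rw [← Matrix.fromBlocks_one, Matrix.fromBlocks_smul, smul_zero, smul_zero]
    rw [this, Matrix.mul_smul, Matrix.mul_one, Matrix.smul_mul, h1]
    rfl
  · have hc21 : c₂ = -c₁ := by linear_combination h4
    refine ⟨Units.mk0 (-c₁) (neg_ne_zero.mpr hc₁0), 1, ?_⟩
    apply Units.ext
    rw [pow_one, hsc, htED, hhE, hblk, hc21]
    have : Matrix.fromBlocks (c₁ • (1 : Matrix (Fin k) (Fin k) F)) 0 0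
        (-c₁ • (1 : Matrix (Fin l) (Fin l) F)) = (-c₁) • D := by
      rw [hD, Matrix.fromBlocks_smul, smul_zero, smul_zero]
      congr 1
      rw [smul_neg, neg_smul, neg_neg]
    rw [this, Matrix.mul_smul, Matrix.smul_mul]
    rfl

end main

end Cfsg.Agent.Lib.Helper37.LBM
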