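import Mathlib
import Cfsg.Agent.Lib.Helper37.LBM.GraphA
import Cfsg.Agent.Lib.Helper36.InndiagMinus
import Cfsg.Agent.Lib.Helper13.MinusCent6
import Cfsg.Agent.Lib.Helper13.MinusCosetFinal
import Cfsg.Agent.S2696
import Cfsg.Agent.Lib.Helper76.MinusGraphClass
import Cfsg.Agent.Lib.Helper43.MinusGB8

set_option autoImplicit false
set_option linter.unusedSectionVars false
set_option linter.unusedVariables false

namespace Cfsg.Agent.Lib.Helper37.LBM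

open Matrix Cfsg.Agent.Lib.Helper36 Cfsg.Agent.Lib.Helper36.AutO
  Cfsg.Agent.Lib.Helper36.LocalBalance Cfsg.Agent.Lib.Helper13 Cfsg.Agent.S0791
  Cfsg.Agent.Lib.Helper76.MinusGraphClass

/-! ### the determinant criterion -/

section det

variable {F : Type*} [Field F] [Fintype F] {m : ℕ}

/-- a non-class-preserving similarity has `det g = -μ ^ (m+1)` (form given as a function) -/
theorem det_of_not_preserves_aux [DecidableEq F] (h2 : (2 : F) ≠ 0) (a b : F)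
    (hab : ∀ z₁ z₂ : F, z₁ ^ 2 + a * z₁ * z₂ + b * z₂ ^ 2 = 0 → z₁ = 0 ∧ z₂ = 0)
    (f : ((Fin m ⊕ Fin m) ⊕ Fin 2 → F) → F) (hf : ⇑(minusForm m F a b) = f)
    (g : ↥(Cfsg.Geo.quadSimilarityGroup f)) (μ : Fˣ)
    (hμ : ∀ v, f (((g : GL ((Fin m ⊕ Fin m) ⊕ Fin 2) F) :
      Matrix ((Fin m ⊕ Fin m) ⊕ Fin 2) ((Fin m ⊕ Fin m) ⊕ Fin 2) F) *ᵥ v) = (μ : F) * f v)
    (hnp : ¬ Cfsg.PreservesSingularClassesMinus m a b
      ((g : GL ((Fin m ⊕ Fin m) ⊕ Fin 2) F) :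
        Matrix ((Fin m ⊕ Fin m) ⊕ Fin 2) ((Fin m ⊕ Fin m) ⊕ Fin 2) F)) :
    ((g : GL ((Fin m ⊕ Fin m) ⊕ Fin 2) F) :
        Matrix ((Fin m ⊕ Fin m) ⊕ Fin 2) ((Fin m ⊕ Fin m) ⊕ Fin 2) F).det = -(μ : F) ^ (m + 1) := by
  subst hf
  have hodd : Fintype.card F % 2 = 1 := by
    have := Cfsg.Agent.Lib.Helper44.LB.odd_card_of_two_ne_zero h2
    exact Nat.odd_iff.mp this
  set v₀ : (Fin m ⊕ Fin m) ⊕ Fin 2 → F := Pi.single (Sum.inr 0) 1 with hv₀def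
  have hv₀ : minusForm m F a b v₀ ≠ 0 := by
    rw [minusForm_coe, hv₀def, quadFormMinus_single_z]
    exact one_ne_zero
  have hQ := minusForm_nondeg h2 m a b hab
  have h1 := (preservesMinus_iff_deltaHom hodd m a b hab v₀ hv₀ g).not.mp hnp
  have h3 := deltaHom_sq (minusForm m F a b) v₀ hv₀ (m + 1) hQ (card_minus_index m) g
  rcases units_eq_one_or_neg_one h3 with h4 | h4
  · exact absurd h4 h1
  · rw [deltaHom_apply, mult_eq (minusForm m F a b) v₀ hv₀ g μ hμ] at h4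
    have h5 : Matrix.GeneralLinearGroup.det (g : GL ((Fin m ⊕ Fin m) ⊕ Fin 2) F) =
        -(μ ^ (m + 1)) := by
      rw [mul_inv_eq_iff_eq_mul] at h4
      rw [h4, neg_mul, one_mul]
    have h6 := congrArg Units.val h5
    rw [Matrix.GeneralLinearGroup.val_det_apply, Units.val_neg, Units.val_pow_eq_pow_val] at h6
    exact h6

theorem det_of_not_preserves (h2 : (2 : F) ≠ 0) (a b : F)
    (hab : ∀ z₁ z₂ : F, z₁ ^ 2 + a * z₁ * z₂ + b * z₂ ^ 2 = 0 → z₁ = 0 ∧ z₂ = 0)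
    (g : ↥(Cfsg.Geo.quadSimilarityGroup (Cfsg.quadFormMinus m F a b))) (μ : Fˣ)
    (hμ : ∀ v, Cfsg.quadFormMinus m F a b (((g : GL ((Fin m ⊕ Fin m) ⊕ Fin 2) F) :
      Matrix ((Fin m ⊕ Fin m) ⊕ Fin 2) ((Fin m ⊕ Fin m) ⊕ Fin 2) F) *ᵥ v) =
        (μ : F) * Cfsg.quadFormMinus m F a b v)
    (hnp : ¬ Cfsg.PreservesSingularClassesMinus m a b
      ((g : GL ((Fin m ⊕ Fin m) ⊕ Fin 2) F) :
        Matrix ((Fin m ⊕ Fin m) ⊕ Fin 2) ((Fin m ⊕ Fin m) ⊕ Fin 2) F)) :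
    ((g : GL ((Fin m ⊕ Fin m) ⊕ Fin 2) F) :
        Matrix ((Fin m ⊕ Fin m) ⊕ Fin 2) ((Fin m ⊕ Fin m) ⊕ Fin 2) F).det = -(μ : F) ^ (m + 1) := by
  classical
  exact det_of_not_preserves_aux h2 a b hab _ (minusForm_coe m F a b) g μ hμ hnp

end det

section main

variable {F : Type*} [Field F] [Fintype F] {m : ℕ}

set_option maxHeartbeats 1600000 in
/-- **the graph half**: `O_{2'}(C_A(x)) = 1` for an involution `x = simAut g ∉ Inndiag` -/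
theorem minus_graph_main (hm : 3 ≤ m) (a b : F)
    (hab : ∀ z₁ z₂ : F, z₁ ^ 2 + a * z₁ * z₂ + b * z₂ ^ 2 = 0 → z₁ = 0 ∧ z₂ = 0)
    (h2 : (2 : F) ≠ 0)
    (g : ↥(Cfsg.Geo.quadSimilarityGroup (Cfsg.quadFormMinus m F a b)))
    (hx2 : simAut (Cfsg.quadFormMinus m F a b) g ^ 2 = 1)
    (hnp : ¬ Cfsg.PreservesSingularClassesMinus m a b
      ((g : GL ((Fin m ⊕ Fin m) ⊕ Fin 2) F) :
        Matrix ((Fin m ⊕ Fin m) ⊕ Fin 2) ((Fin m ⊕ Fin m) ⊕ Fin 2) F))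
    (A : Subgroup (MulAut (Cfsg.POmega F (Cfsg.quadFormMinus m F a b))))
    (hinn : Cfsg.Inn (Cfsg.POmega F (Cfsg.quadFormMinus m F a b)) ≤ A) :
    Cfsg.pPrimeCore 2
      ↥(A ⊓ Subgroup.centralizer {simAut (Cfsg.quadFormMinus m F a b) g}) = ⊥ := by
  classical
  have h7 : 7 ≤ Fintype.card ((Fin m ⊕ Fin m) ⊕ Fin 2) := by
    rw [card_minus_index]; omega
  have hQ := minusQ_nondeg_of_aniso m a b hab
  have htop : Cfsg.gammaPOmega F (⇑(minusQ m F a b)) = ⊤ := Cfsg.Agent.S2696.result hm a b hab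
  -- `x ∉ Inn`
  have hgI : ∀ g' : ↥(Cfsg.Geo.quadSimilarityGroup (Cfsg.quadFormMinus m F a b)),
      simAut (Cfsg.quadFormMinus m F a b) g' = simAut (Cfsg.quadFormMinus m F a b) g →
      simAut (Cfsg.quadFormMinus m F a b) g' ∉
        Cfsg.Inn (Cfsg.POmega F (Cfsg.quadFormMinus m F a b)) := by
    intro g' hg' hmem
    rw [hg'] at hmem
    exact hnp ((simAut_mem_inndiag_iff_preserves hm a b hab g).mp
      (Inn_le_inndiag_minus a b hab hmem))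
  -- multiplier and square
  obtain ⟨μ, hμ⟩ := g.2
  have hμ' : ∀ v, Cfsg.quadFormMinus m F a b (((g : GL ((Fin m ⊕ Fin m) ⊕ Fin 2) F) :
      Matrix ((Fin m ⊕ Fin m) ⊕ Fin 2) ((Fin m ⊕ Fin m) ⊕ Fin 2) F) *ᵥ v) =
        (μ : F) * Cfsg.quadFormMinus m F a b v := fun v => hμ v
  have hgg1 : simAut (Cfsg.quadFormMinus m F a b) (g * g) = 1 := by
    rw [map_mul, ← pow_two]; exact hx2
  obtain ⟨lam, hlam⟩ := (simAut_eq_one_iff (minusQ m F a b) hQ h7 (g * g)).mp hgg1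
  have hlam' : ((g : GL ((Fin m ⊕ Fin m) ⊕ Fin 2) F) :
      Matrix ((Fin m ⊕ Fin m) ⊕ Fin 2) ((Fin m ⊕ Fin m) ⊕ Fin 2) F) *
      ((g : GL ((Fin m ⊕ Fin m) ⊕ Fin 2) F) :
      Matrix ((Fin m ⊕ Fin m) ⊕ Fin 2) ((Fin m ⊕ Fin m) ⊕ Fin 2) F) =
      lam • (1 : Matrix ((Fin m ⊕ Fin m) ⊕ Fin 2) ((Fin m ⊕ Fin m) ⊕ Fin 2) F) := by
    rw [← hlam]; rfl
  have hdet := det_of_not_preserves h2 a b hab g μ hμ' hnp
  have hdetne : ((g : GL ((Fin m ⊕ Fin m) ⊕ Fin 2) F) :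
      Matrix ((Fin m ⊕ Fin m) ⊕ Fin 2) ((Fin m ⊕ Fin m) ⊕ Fin 2) F).det ≠ (μ : F) ^ (m + 1) := by
    rw [hdet]
    intro h0
    have h3 : (2 : F) * (μ : F) ^ (m + 1) = 0 := by linear_combination -h0
    rcases mul_eq_zero.mp h3 with h4 | h4
    · exact h2 h4
    · exact (pow_ne_zero _ μ.ne_zero) h4
  obtain ⟨hlamμ, hcase⟩ := minus_graph_class a b hab h2 _ (μ : F) lam μ.ne_zero hμ' hlam' hdetne
  by_cases hsq : IsSquare (μ : F)
  · -- case (a)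
    obtain ⟨c, hc⟩ := hsq
    have hc0 : c ≠ 0 := by
      intro h0
      rw [h0, mul_zero] at hc
      exact μ.ne_zero hc
    set cu : Fˣ := Units.mk0 c hc0 with hcu
    set tGL : GL ((Fin m ⊕ Fin m) ⊕ Fin 2) F :=
      Matrix.GeneralLinearGroup.scalar _ cu⁻¹ * (g : GL ((Fin m ⊕ Fin m) ⊕ Fin 2) F) with htGL
    have htcoe : (tGL : Matrix ((Fin m ⊕ Fin m) ⊕ Fin 2) ((Fin m ⊕ Fin m) ⊕ Fin 2) F) =
        c⁻¹ • ((g : GL ((Fin m ⊕ Fin m) ⊕ Fin 2) F) :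
          Matrix ((Fin m ⊕ Fin m) ⊕ Fin 2) ((Fin m ⊕ Fin m) ⊕ Fin 2) F) := by
      rw [htGL, Units.val_mul, Matrix.GeneralLinearGroup.coe_scalar, Matrix.scalar_apply,
        ← Matrix.smul_eq_diagonal_mul]
      rfl
    have htiso : tGL ∈ Cfsg.isometryGroup F (Cfsg.quadFormMinus m F a b) := by
      rw [mem_isometryGroup_iff']
      intro v
      rw [htcoe, Matrix.smul_mulVec]
      have := QuadraticMap.map_smul (minusQ m F a b) c⁻¹
        (((g : GL ((Fin m ⊕ Fin m) ⊕ Fin 2) F) :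
          Matrix ((Fin m ⊕ Fin m) ⊕ Fin 2) ((Fin m ⊕ Fin m) ⊕ Fin 2) F) *ᵥ v)
      rw [minusQ_coe] at this
      rw [this, hμ', hc, smul_eq_mul]
      field_simp
    set t : ↥(Cfsg.Geo.quadSimilarityGroup (Cfsg.quadFormMinus m F a b)) :=
      ⟨tGL, isometryGroup_le_similarity _ htiso⟩ with ht
    have hsame : simAut (Cfsg.quadFormMinus m F a b) t = simAut (Cfsg.quadFormMinus m F a b) g :=
      simAut_eq_of_scalar_mul _ t g cu⁻¹ rfl
    have htt : (t : GL ((Fin m ⊕ Fin m) ⊕ Fin 2) F) * (t : GL ((Fin m ⊕ Fin m) ⊕ Fin 2) F) = 1 := by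
      apply Units.ext
      show (tGL : Matrix ((Fin m ⊕ Fin m) ⊕ Fin 2) ((Fin m ⊕ Fin m) ⊕ Fin 2) F) *
        (tGL : Matrix ((Fin m ⊕ Fin m) ⊕ Fin 2) ((Fin m ⊕ Fin m) ⊕ Fin 2) F) = 1
      rw [htcoe, Matrix.smul_mul, Matrix.mul_smul, hlam', hlamμ, hc, smul_smul, smul_smul]
      have : c⁻¹ * c⁻¹ * (c * c) = 1 := by field_simp
      rw [this, one_smul]
    have hdett : ((t : GL ((Fin m ⊕ Fin m) ⊕ Fin 2) F) :
        Matrix ((Fin m ⊕ Fin m) ⊕ Fin 2) ((Fin m ⊕ Fin m) ⊕ Fin 2) F).det = -1 := by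
      show (tGL : Matrix ((Fin m ⊕ Fin m) ⊕ Fin 2) ((Fin m ⊕ Fin m) ⊕ Fin 2) F).det = -1
      rw [htcoe, Matrix.det_smul, card_minus_index, hdet, hc]
      have : c⁻¹ ^ (2 * (m + 1)) * -(c * c) ^ (m + 1) = -1 := by
        rw [← pow_two, ← pow_mul, mul_neg, ← mul_pow, inv_mul_cancel₀ hc0, one_pow]
      exact this
    rw [← hsame]
    exact lb_involution h2 (minusQ m F a b) hQ h7 (m + 1) (card_minus_index m) htop t htiso htt
      hdett (hgI t hsame) A hinn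
  · -- case (b)
    have hodd : Odd (m + 1) := by
      rcases hcase with h | h
      · exact absurd h hsq
      · exact h
    rw [hlamμ] at hlam'
    exact Cfsg.Agent.Lib.Helper43.minus_graph_b hm a b hab h2 hodd g (μ : F) hsq hμ' hlam' (hgI g rfl) A hinn

end main

section ordertwo

universe u

/-- a similarity-induced automorphism of prime order outside `Inndiag` has order two -/
theorem order_two_of_not_preserves {F : Type u} [Field F] [Fintype F] {m : ℕ} (hm : 3 ≤ m)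
    (a b : F)
    (hab : ∀ z₁ z₂ : F, z₁ ^ 2 + a * z₁ * z₂ + b * z₂ ^ 2 = 0 → z₁ = 0 ∧ z₂ = 0)
    (g : ↥(Cfsg.Geo.quadSimilarityGroup (Cfsg.quadFormMinus m F a b)))
    (hnp : ¬ Cfsg.PreservesSingularClassesMinus m a b
      ((g : GL ((Fin m ⊕ Fin m) ⊕ Fin 2) F) :
        Matrix ((Fin m ⊕ Fin m) ⊕ Fin 2) ((Fin m ⊕ Fin m) ⊕ Fin 2) F))
    {p : ℕ} (hp : p.Prime) (hxp : simAut (Cfsg.quadFormMinus m F a b) g ^ p = 1) : p = 2 := by
  classical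
  obtain ⟨K, _, _, hK, ρ, hρ⟩ := exists_quadratic_root_extension F a b hab
  have hdisc := disc_map_ne_zero (K := K) a b hab
  have h7 : 7 ≤ Fintype.card ((Fin m ⊕ Fin m) ⊕ Fin 2) := by
    rw [card_minus_index]; omega
  have h1 : simAut (Cfsg.quadFormMinus m F a b) (g ^ p) = 1 := by rw [map_pow]; exact hxp
  obtain ⟨l, hl⟩ := (simAut_eq_one_iff (minusQ m F a b) (minusQ_nondeg_of_aniso m a b hab) h7
    (g ^ p)).mp h1
  have h2 : classHom m a b K ρ hρ hdisc (g ^ p) = 1 := classHom_scalar a b ρ hρ hdisc _ l hl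
  have h3 : classHom m a b K ρ hρ hdisc g ≠ 1 := by
    intro h
    exact hnp ((classHom_eq_one_iff hK a b hab ρ hρ hdisc g).mp h)
  rw [map_pow] at h2
  by_contra hp2
  have hodd : Odd p := hp.odd_of_ne_two hp2
  obtain ⟨j, rfl⟩ := hodd
  apply h3
  have hsq : ∀ z : Multiplicative (ZMod 2), z * z = 1 := by decide
  rw [pow_succ, pow_mul, pow_two, hsq, one_pow, one_mul] at h2
  exact h2

end ordertwo

end Cfsg.Agent.Lib.Helper37.LBM
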